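import Mathlib

set_option autoImplicit false
universe u

open scoped TensorProduct
open IntermediateField

namespace Groth.Agent.Fields8

theorem charpoly_lmul {K L : Type u} [Field K] [Field L] [Algebra K L] [FiniteDimensional K L]
    (a : L) :
    (Algebra.lmul K L a).charpoly = minpoly K a ^ Module.finrank K⟮a⟯ L ∧
      Module.finrank K⟮a⟯ L * (minpoly K a).natDegree = Module.finrank K L := by
  classical
  have hint : IsIntegral K a := IsIntegral.of_finite K a
  constructor
  · let pb := IntermediateField.adjoin.powerBasis hint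
    let c := Module.finBasis K⟮a⟯ L
    have h1 := LinearMap.charpoly_toMatrix (Algebra.lmul K L a) (pb.basis.smulTower c)
    rw [← h1, ← Algebra.leftMulMatrix_apply]
    have h2 : a = algebraMap K⟮a⟯ L pb.gen := by
      simp [pb, IntermediateField.AdjoinSimple.algebraMap_gen]
    rw [(congrArg (Algebra.leftMulMatrix (pb.basis.smulTower c)) h2).trans
      (Algebra.smulTower_leftMulMatrix_algebraMap pb.basis c pb.gen), Matrix.charpoly, Matrix.charmatrix]
    rw [show (Matrix.scalar (Fin pb.dim × Fin (Module.finrank K⟮a⟯ L))) Polynomial.X -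
        Polynomial.C.mapMatrix (Matrix.blockDiagonal fun _ : Fin (Module.finrank K⟮a⟯ L) =>
          Algebra.leftMulMatrix pb.basis pb.gen) =
        Matrix.blockDiagonal fun _ : Fin (Module.finrank K⟮a⟯ L) =>
          Matrix.charmatrix (Algebra.leftMulMatrix pb.basis pb.gen) from ?_]
    · rw [Matrix.det_blockDiagonal]
      simp only [Finset.prod_const, Finset.card_univ, Fintype.card_fin]
      rw [← Matrix.charpoly, charpoly_leftMulMatrix]
      simp [pb, IntermediateField.minpoly_gen]
    · ext ⟨i, k⟩ ⟨j, k'⟩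
      by_cases hk : k = k'
      · subst hk
        by_cases hij : i = j <;> simp [Matrix.charmatrix, hij, Matrix.blockDiagonal_apply]
      · simp [Matrix.blockDiagonal_apply, hk, Prod.ext_iff, Matrix.diagonal_apply]
  · rw [← IntermediateField.adjoin.finrank hint, mul_comm, Module.finrank_mul_finrank]

theorem artin_schreier {K L : Type u} [Field K] [Field L] [Algebra K L] (p : ℕ)
    [Fact p.Prime] [CharP K p] [FiniteDimensional K L] [IsGalois K L]
    (hdeg : Module.finrank K L = p) :
    ∃ z : L, z ^ p - z ∈ Set.range (algebraMap K L) ∧ K⟮z⟯ = ⊤ := by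
  classical
  have hp : p.Prime := Fact.out
  haveI : CharP L p := charP_of_injective_algebraMap (algebraMap K L).injective p
  have hcard : Nat.card (L ≃ₐ[K] L) = p := by rw [IsGalois.card_aut_eq_finrank, hdeg]
  haveI : Nontrivial (L ≃ₐ[K] L) := Finite.one_lt_card_iff_nontrivial.mp (by rw [hcard]; exact hp.one_lt)
  obtain ⟨σ, hσ⟩ := exists_ne (1 : L ≃ₐ[K] L)
  obtain ⟨θ, hθ⟩ := Algebra.trace_surjective K L 1
  have hord : orderOf σ = p := by
    have := orderOf_dvd_natCard σ
    rw [hcard] at this
    rcases (Nat.dvd_prime hp).mp this with h | h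
    · exact absurd (orderOf_eq_one_iff.mp h) hσ
    · exact h
  have hgen : ∀ g : L ≃ₐ[K] L, g ∈ Subgroup.zpowers σ := fun g => by
    exact mem_zpowers_of_prime_card hcard hσ
  let t : ℕ → L := fun i => (σ ^ i) θ
  have htp : t p = t 0 := by simp only [t]; rw [← hord, pow_orderOf_eq_one, pow_zero]
  have hsum : ∑ i ∈ Finset.range p, t i = 1 := by
    have h1 : algebraMap K L (Algebra.trace K L θ) = ∑ g : L ≃ₐ[K] L, g θ :=
      trace_eq_sum_automorphisms θ
    rw [hθ, map_one] at h1
    rw [h1]
    refine Finset.sum_bij (fun i _ => σ ^ i) (fun _ _ => Finset.mem_univ _) ?_ ?_ (fun _ _ => rfl)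
    · intro i hi j hj hij
      exact (pow_inj_mod.mp hij |> fun h => by
        rwa [hord, Nat.mod_eq_of_lt (Finset.mem_range.mp hi), Nat.mod_eq_of_lt (Finset.mem_range.mp hj)] at h)
    · intro g _
      obtain ⟨i, hi⟩ := Finset.mem_image.mp (mem_powers_iff_mem_range_orderOf.mp
        ((isOfFinOrder_of_finite σ).mem_powers_iff_mem_zpowers.mpr (hgen g)))
      exact ⟨i, by rw [← hord]; exact hi.1, hi.2⟩
  let z : L := ∑ i ∈ Finset.range p, (i : L) * t i
  have hσz : σ z = z - 1 := by
    have h1 : ∀ i, σ (t i) = t (i + 1) := fun i => by simp only [t]; rw [pow_succ']; rfl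
    have h2 : σ z = ∑ i ∈ Finset.range p, (i : L) * t (i + 1) := by
      simp [z, map_sum, map_mul, h1]
    have h3 : ∑ i ∈ Finset.range p, ((i + 1 : ℕ) : L) * t (i + 1) =
        ∑ i ∈ Finset.range p, (i : L) * t i := by
      have h4 := Finset.sum_range_succ' (fun i => (i : L) * t i) p
      rw [Finset.sum_range_succ] at h4
      simp only [CharP.cast_eq_zero, zero_mul, Nat.cast_zero, add_zero] at h4
      exact h4.symm
    have h5 : ∑ i ∈ Finset.range p, t (i + 1) = 1 := by
      have h4 := Finset.sum_range_succ' t p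
      rw [Finset.sum_range_succ, htp] at h4
      rw [← hsum]; linear_combination -h4
    rw [h2]
    simp only [Nat.cast_add, Nat.cast_one, add_mul, one_mul, Finset.sum_add_distrib, h5] at h3
    linear_combination h3
  refine ⟨-z, ?_, ?_⟩
  · suffices (-z) ^ p - -z ∈ (⊥ : IntermediateField K L) from IntermediateField.mem_bot.mp this
    rw [IsGalois.mem_bot_iff_fixed]
    intro g
    have hfix : σ ((-z) ^ p - -z) = (-z) ^ p - -z := by
      rw [map_sub, map_pow, map_neg, hσz, neg_sub, sub_eq_add_neg 1 z, add_pow_char]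
      simp
    have : g ∈ MulAction.stabilizer (L ≃ₐ[K] L) ((-z) ^ p - -z) :=
      (Subgroup.zpowers_le.mpr (show σ ∈ MulAction.stabilizer (L ≃ₐ[K] L) ((-z) ^ p - -z) from hfix)) (hgen g)
    exact this
  · have hne : K⟮-z⟯ ≠ ⊥ := by
      intro h
      have hz : -z ∈ (⊥ : IntermediateField K L) := h ▸ mem_adjoin_simple_self K (-z)
      obtain ⟨c, hc⟩ := IntermediateField.mem_bot.mp hz
      have : σ (-z) = -z := by rw [← hc, AlgEquiv.commutes]
      rw [map_neg, hσz] at this
      simp at this
    have hdvd : Module.finrank K K⟮-z⟯ ∣ p := by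
      rw [← hdeg, ← Module.finrank_mul_finrank K K⟮-z⟯ L]; exact dvd_mul_right _ _
    rcases (Nat.dvd_prime hp).mp hdvd with h | h
    · exact absurd (IntermediateField.finrank_eq_one_iff.mp h) hne
    · exact IntermediateField.eq_of_le_of_finrank_eq le_top (by rw [h, IntermediateField.finrank_top', hdeg])

theorem pthRoots {F E : Type u} [Field F] [Field E] [Algebra F E] (p : ℕ)
    [Fact p.Prime] [CharP F p] [FiniteDimensional F E] [IsPurelyInseparable F E] :
    ∃ (n : ℕ) (a : Fin n → E), adjoin F (Set.range a) = ⊤ ∧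
      (∀ i : Fin n, a i ^ p ∈ adjoin F (a '' {j | j < i}) ∧ a i ∉ adjoin F (a '' {j | j < i})) ∧
      Module.finrank F E = p ^ n := by
  classical
  have hp : p.Prime := Fact.out
  haveI : ExpChar F p := .prime hp
  haveI : CharP E p := charP_of_injective_algebraMap (algebraMap F E).injective p
  suffices ∀ d n (a : Fin n → E),
      Module.finrank (adjoin F (Set.range a)) E = d →
      (∀ i : Fin n, a i ^ p ∈ adjoin F (a '' {j | j < i}) ∧ a i ∉ adjoin F (a '' {j | j < i})) →
      Module.finrank F (adjoin F (Set.range a)) = p ^ n →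
      ∃ (n : ℕ) (a : Fin n → E), adjoin F (Set.range a) = ⊤ ∧
      (∀ i : Fin n, a i ^ p ∈ adjoin F (a '' {j | j < i}) ∧ a i ∉ adjoin F (a '' {j | j < i})) ∧
      Module.finrank F E = p ^ n by
    refine this _ 0 (Fin.elim0) rfl (fun i => i.elim0) ?_
    simp [IntermediateField.finrank_bot]
  intro d
  induction d using Nat.strong_induction_on with
  | _ d IH =>
  intro n a hd ha hn
  set M := adjoin F (Set.range a) with hM
  by_cases htop : M = ⊤
  · exact ⟨n, a, htop, ha, by rw [← IntermediateField.finrank_top', ← htop, hn]⟩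
  obtain ⟨x, hx⟩ : ∃ x, x ∉ M := by
    by_contra! h
    exact htop (eq_top_iff.mpr fun x _ => h x)
  have hex : ∃ k : ℕ, x ^ p ^ k ∈ M := by
    obtain ⟨k, c, hc⟩ := IsPurelyInseparable.pow_mem F p x
    exact ⟨k, hc ▸ M.algebraMap_mem c⟩
  obtain ⟨k, hk, hk'⟩ : ∃ k : ℕ, x ^ p ^ (k + 1) ∈ M ∧ x ^ p ^ k ∉ M := by
    obtain ⟨k, hk⟩ : ∃ k, Nat.find hex = k + 1 := by
      refine Nat.exists_eq_succ_of_ne_zero fun h => hx ?_
      simpa [h] using Nat.find_spec hex
    exact ⟨k, hk ▸ Nat.find_spec hex, Nat.find_min hex (by omega)⟩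
  set b := x ^ p ^ k with hb
  have hbp : b ^ p ∈ M := by rwa [hb, ← pow_mul, ← pow_succ]
  have hirr : Irreducible (Polynomial.X ^ p - Polynomial.C (⟨b ^ p, hbp⟩ : M)) := by
    refine X_pow_sub_C_irreducible_of_prime hp fun y hy => hk' ?_
    have h1 : (y : E) ^ p = b ^ p := congrArg Subtype.val hy
    have h2 : frobenius E p (y : E) = frobenius E p b := h1
    exact (frobenius_inj E p h2) ▸ y.2
  have hmin : minpoly M b = Polynomial.X ^ p - Polynomial.C (⟨b ^ p, hbp⟩ : M) :=
    (minpoly.eq_of_irreducible_of_monic hirr (by simp) (Polynomial.monic_X_pow_sub_C _ hp.ne_zero)).symm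
  have hMb : Module.finrank M (adjoin M {b}) = p := by
    rw [IntermediateField.adjoin.finrank (IsIntegral.of_finite M b), hmin, Polynomial.natDegree_X_pow_sub_C]
  let a' : Fin (n + 1) → E := Fin.snoc a b
  have hr : Set.range a' = Set.range a ∪ {b} := by simp [a', Fin.range_snoc, Set.union_comm]
  have hN : adjoin F (Set.range a') = (adjoin M {b}).restrictScalars F := by
    rw [hr, hM, IntermediateField.adjoin_adjoin_left]
  have hn' : Module.finrank F (adjoin F (Set.range a')) = p ^ (n + 1) := by
    rw [hN, pow_succ, ← hn, ← hMb]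
    exact (Module.finrank_mul_finrank F M (adjoin M {b})).symm
  refine IH (Module.finrank (adjoin F (Set.range a')) E) ?_ (n + 1) a' rfl ?_ hn'
  · have h1 := Module.finrank_mul_finrank F M E
    have h2 := Module.finrank_mul_finrank F (adjoin F (Set.range a')) E
    rw [hn] at h1
    rw [hn', pow_succ, ← h1, hd, mul_assoc] at h2
    have h3 : p * Module.finrank (adjoin F (Set.range a')) E = d :=
      Nat.eq_of_mul_eq_mul_left (pow_pos hp.pos n) h2
    have hpos : 0 < Module.finrank (adjoin F (Set.range a')) E := Module.finrank_pos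
    rw [← h3]
    exact lt_mul_of_one_lt_left hpos hp.one_lt
  · intro i
    refine Fin.lastCases ?_ (fun i => ?_) i
    · have : a' '' {j | j < Fin.last n} = Set.range a := by
        ext y
        simp only [Set.mem_image, Set.mem_setOf_eq, Set.mem_range]
        constructor
        · rintro ⟨j, hj, rfl⟩
          obtain ⟨j, rfl⟩ := Fin.exists_castSucc_eq.mpr hj.ne
          exact ⟨j, by simp [a']⟩
        · rintro ⟨j, rfl⟩
          exact ⟨j.castSucc, Fin.castSucc_lt_last j, by simp [a']⟩
      rw [this]
      simpa [a'] using And.intro hbp hk'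
    · have : a' '' {j | j < i.castSucc} = a '' {j | j < i} := by
        ext y
        simp only [Set.mem_image, Set.mem_setOf_eq]
        constructor
        · rintro ⟨j, hj, rfl⟩
          obtain ⟨j, rfl⟩ := Fin.exists_castSucc_eq.mpr (hj.trans_le (Fin.le_last _)).ne
          exact ⟨j, by simpa using hj, by simp [a']⟩
        · rintro ⟨j, hj, rfl⟩
          exact ⟨j.castSucc, by simpa using hj, by simp [a']⟩
      rw [this]
      simpa [a'] using ha i

theorem finite_algClosure {k K : Type u} [Field k] [Field K] [Algebra k K]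
    (hfg : (⊤ : IntermediateField k K).FG) :
    FiniteDimensional k (algebraicClosure k K) := by
  classical
  obtain ⟨s, hs⟩ := exists_isTranscendenceBasis k K
  haveI := hs.isAlgebraic_field
  set L₀ := adjoin k (Set.range ((↑) : s → K)) with hL₀
  obtain ⟨S, hS⟩ := hfg
  haveI : FiniteDimensional L₀ K := by
    have h1 : adjoin L₀ (S : Set K) = ⊤ := by
      apply IntermediateField.restrictScalars_injective k
      rw [hL₀, IntermediateField.adjoin_adjoin_left, IntermediateField.restrictScalars_top, eq_top_iff, ← hS]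
      exact adjoin.mono k _ _ Set.subset_union_right
    haveI : FiniteDimensional L₀ (adjoin L₀ (S : Set K)) :=
      IntermediateField.finiteDimensional_adjoin fun x _ => (Algebra.IsAlgebraic.isAlgebraic x).isIntegral
    rw [h1] at this
    exact IntermediateField.topEquiv.toLinearEquiv.finiteDimensional
  set A := algebraicClosure k K
  haveI : Algebra.IsAlgebraic k A := algebraicClosure.isAlgebraic k K
  have hA : AlgebraicIndependent A ((↑) : s → K) := hs.1.extendScalars A
  refine Module.rank_lt_aleph0_iff.mp (lt_of_le_of_lt ?_ (Cardinal.natCast_lt_aleph0 (n := Module.finrank L₀ K)))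
  refine rank_le fun t ht => ?_
  suffices LinearIndependent L₀ (fun i : t => ((i : A) : K)) by
    simpa using this.fintype_card_le_finrank
  open scoped IntermediateField.algebraAdjoinAdjoin in
  rw [← LinearIndependent.iff_fractionRing (R := Algebra.adjoin k (Set.range ((↑) : s → K))) (K := L₀)]
  rw [Fintype.linearIndependent_iff]
  intro g hg
  have hg' : ∀ i, ∃ P : MvPolynomial s k, MvPolynomial.aeval ((↑) : s → K) P = (g i : K) := fun i => by
    exact (AlgHom.mem_range (MvPolynomial.aeval ((↑) : s → K))).mp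
      ((le_of_eq (Algebra.adjoin_range_eq_range_aeval k ((↑) : s → K))) (g i).2)
  choose P hP using hg'
  let Q : MvPolynomial s A := ∑ i : t, MvPolynomial.C (i : A) * MvPolynomial.map (algebraMap k A) (P i)
  have hQ : MvPolynomial.aeval ((↑) : s → K) Q = 0 := by
    rw [← hg]
    simp only [Q, map_sum, map_mul, MvPolynomial.aeval_C, MvPolynomial.aeval_map_algebraMap, hP]
    exact Finset.sum_congr rfl fun i _ => mul_comm _ _
  have hQ0 : Q = 0 := hA.eq_zero_of_aeval_eq_zero _ hQ
  have hPi : ∀ i, P i = 0 := by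
    intro i
    ext m
    have hm : ∑ j : t, MvPolynomial.coeff m (P j) • (j : A) = 0 := by
      have := congrArg (MvPolynomial.coeff m) hQ0
      simpa [Q, MvPolynomial.coeff_sum, MvPolynomial.coeff_C_mul, MvPolynomial.coeff_map,
        Algebra.smul_def, mul_comm] using this
    simpa using Fintype.linearIndependent_iff.mp ht _ hm i
  intro i
  exact Subtype.ext (by rw [← hP i, hPi i]; simp)

theorem isPthPower {K L : Type u} [Field K] [Field L] [Algebra K L]
    (p : ℕ) [Fact p.Prime] [CharP K p] [Algebra.IsSeparable K L] (a : L) (P : Polynomial K)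
    (hroot : Polynomial.aeval a P = 0) (hsep : P.Separable) (hcoeff : ∀ i : ℕ, ∃ b : K, b ^ p = P.coeff i) :
    ∃ c : L, c ^ p = a := by
  classical
  have hp : p.Prime := Fact.out
  haveI : CharP L p := charP_of_injective_algebraMap (algebraMap K L).injective p
  haveI : CharP (AlgebraicClosure L) p := charP_of_injective_algebraMap (algebraMap L _).injective p
  haveI : ExpChar L p := .prime hp
  obtain ⟨c, hc⟩ := IsAlgClosed.exists_pow_nat_eq (algebraMap L (AlgebraicClosure L) a) hp.pos
  choose b hb using hcoeff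
  let Q : Polynomial K := ∑ i ∈ Finset.range (P.natDegree + 1), Polynomial.C (b i) * Polynomial.X ^ i
  have hQP : Q.map (frobenius K p) = P := by
    conv_rhs => rw [P.as_sum_range_C_mul_X_pow]
    simp [Q, Polynomial.map_sum, frobenius_def, hb]
  have hQsep : Q.Separable := Polynomial.separable_map (frobenius K p) |>.mp (hQP.symm ▸ hsep)
  have hQc : Polynomial.aeval c Q = 0 := by
    have h1 : frobenius (AlgebraicClosure L) p (Polynomial.aeval c Q) = Polynomial.aeval (c ^ p) P := by
      rw [Polynomial.aeval_def, Polynomial.hom_eval₂, Polynomial.aeval_def, ← hQP, Polynomial.eval₂_map]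
      congr 1
      ext y
      simp [frobenius_def]
    rw [hc, Polynomial.aeval_algebraMap_apply, hroot, map_zero] at h1
    exact pow_eq_zero_iff hp.ne_zero |>.mp h1
  have hsc : IsSeparable K c := hQsep.of_dvd (minpoly.dvd K c hQc)
  have hscL : IsSeparable L c := IsSeparable.tower_top L hsc
  have h1 : (minpoly L c).natSepDegree = 1 :=
    (minpoly.natSepDegree_eq_one_iff_pow_mem p).mpr ⟨1, a, by rw [pow_one, hc]⟩
  rw [Polynomial.Separable.natSepDegree_eq_natDegree hscL] at h1
  obtain ⟨c', rfl⟩ := minpoly.natDegree_eq_one_iff.mp h1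
  exact ⟨c', (algebraMap L (AlgebraicClosure L)).injective (by rw [map_pow, hc])⟩

theorem tensor_bijective {F K L : Type u} [Field F] [Field K] [Field L]
    [Algebra F K] [Algebra F L] [FiniteDimensional F K] [Algebra.IsSeparable F K] [IsAlgClosed L] :
    Function.Bijective (fun x : K ⊗[F] L => fun σ : K →ₐ[F] L =>
      Algebra.TensorProduct.lift σ (AlgHom.id F L) (fun a b => Commute.all (σ a) b) x) := by
  classical
  let Ψ : L ⊗[F] K →ₐ[L] ((K →ₐ[F] L) → L) := Pi.algHom L (fun _ : K →ₐ[F] L => L) fun σ =>
    Algebra.TensorProduct.lift (Algebra.ofId L L) σ (fun a b => Commute.all _ _)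
  have hΨ : (fun x : K ⊗[F] L => fun σ : K →ₐ[F] L =>
      Algebra.TensorProduct.lift σ (AlgHom.id F L) (fun a b => Commute.all (σ a) b) x) =
      Ψ ∘ Algebra.TensorProduct.comm F K L := by
    funext x σ
    induction x using TensorProduct.induction_on with
    | zero => simp
    | tmul a b => simp [Ψ, mul_comm]
    | add u v hu hv => simp only [Function.comp_apply, map_add, Pi.add_apply] at hu hv ⊢; rw [hu, hv]
  rw [hΨ]
  refine (Function.Bijective.comp ?_ (Algebra.TensorProduct.comm F K L).bijective)
  haveI : Fintype (K →ₐ[F] L) := Fintype.ofFinite _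
  have hsurj : Function.Surjective Ψ.toLinearMap := by
    rw [← LinearMap.range_eq_top]
    by_contra hne
    obtain ⟨f, hf0, hf⟩ := Submodule.exists_le_ker_of_lt_top _ (lt_top_iff_ne_top.mpr hne)
    let g : (K →ₐ[F] L) → L := fun σ => f (Pi.single σ 1)
    have hfv : ∀ v, f v = ∑ σ, v σ * g σ := fun v => by
      conv_lhs => rw [pi_eq_sum_univ' v, map_sum]
      simp [g, Finset.sum_congr, map_smul]
    have hg : ∀ σ, g σ = 0 := by
      refine Fintype.linearIndependent_iff.mp (linearIndependent_toLinearMap F K L) g ?_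
      ext a
      have h1 : f (Ψ (1 ⊗ₜ a)) = 0 := hf ⟨1 ⊗ₜ a, rfl⟩
      rw [hfv] at h1
      rw [LinearMap.sum_apply]
      simpa [Ψ, mul_comm] using h1
    exact hf0 (LinearMap.ext fun v => by rw [hfv]; simp [hg])
  have hcard : Module.finrank L (L ⊗[F] K) = Module.finrank L ((K →ₐ[F] L) → L) := by
    rw [Module.finrank_baseChange, Module.finrank_fintype_fun_eq_card, ← Nat.card_eq_fintype_card,
      ← Field.finSepDegree_eq_of_isAlgClosed, Field.finSepDegree_eq_finrank_of_isSeparable]
  exact ⟨(LinearMap.injective_iff_surjective_of_finrank_eq_finrank hcard).mpr hsurj, hsurj⟩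

theorem piTensor_surjective {K L M : Type u} [Field K] [Field L] [Field M]
    [Algebra K L] [Algebra K M] [Algebra L M] [IsScalarTower K L M] [FiniteDimensional K L]
    [IsNormalClosure K L M] :
    ∃ f : (⨂[K] _ : Fin (Field.finSepDegree K L), L) →ₐ[K] M, Function.Surjective f := by
  classical
  obtain ⟨hsplit, htop⟩ := (Algebra.IsAlgebraic.isNormalClosure_iff (F := K) (K := L) (L := M)).mp inferInstance
  have hc : Field.finSepDegree K L = Nat.card (L →ₐ[K] M) :=
    Field.finSepDegree_eq_of_adjoin_splits K L M (S := Set.univ) (IntermediateField.adjoin_univ K L)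
      fun s _ => ⟨IsIntegral.of_finite K s, hsplit s⟩
  haveI : Normal K M := IsNormalClosure.normal (K := L)
  let e : Fin (Field.finSepDegree K L) ≃ (L →ₐ[K] M) :=
    (finCongr hc).trans (Finite.equivFin _).symm
  let f₀ : MultilinearMap K (fun _ : Fin (Field.finSepDegree K L) => L) M :=
    (MultilinearMap.mkPiAlgebra K (Fin (Field.finSepDegree K L)) M).compLinearMap fun i => (e i).toLinearMap
  let f := PiTensorProduct.liftAlgHom f₀ (by simp [f₀]) (by simp [f₀, Finset.prod_mul_distrib])
  refine ⟨f, ?_⟩
  rw [← AlgHom.range_eq_top]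
  haveI : Algebra.IsIntegral K M := Algebra.IsAlgebraic.isIntegral
  let R : IntermediateField K M := f.range.toIntermediateField' (Subalgebra.isField_of_algebraic f.range)
  have hle : IntermediateField.normalClosure K L M ≤ R := by
    rw [normalClosure_le_iff]
    rintro σ y ⟨x, rfl⟩
    refine ⟨PiTensorProduct.singleAlgHom (R := K) (A := fun _ : Fin (Field.finSepDegree K L) => L) (e.symm σ) x, ?_⟩
    show f (PiTensorProduct.tprod K _) = σ x
    simp only [f, PiTensorProduct.liftAlgHom_apply, PiTensorProduct.lift.tprod, f₀, MultilinearMap.compLinearMap_apply,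
      MultilinearMap.mkPiAlgebra_apply]
    rw [Finset.prod_eq_single (e.symm σ)]
    · simp
    · intro j _ hj; simp [Pi.mulSingle_eq_of_ne hj]
    · simp
  rw [htop, top_le_iff] at hle
  rw [eq_top_iff]
  intro y _
  have : y ∈ R := hle ▸ IntermediateField.mem_top
  exact this

end Groth.Agent.Fields8
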